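import Mathlib

/-!
# Independence of the digit monomials on the big cell of a Suzuki group (helper991)

`K` a finite field with `2 ^ N` elements, `j : K → k` an embedding, `z(a, b) = a b + a^2 a^(2^M) + b^(2^M)`.
For a set `I` of digits (`I ⊆ range N`) the `4 ^ |I|` functions `∏_{t ∈ I} (r_{i t}) ^ (2 ^ t)`, `r = (1, a, b, z(a, b))`,
on `K × K` are linearly independent over `k`.
-/

set_option autoImplicit false
set_option linter.unusedSectionVars false

namespace Cfsg.Agent.H991.SzDim

open Finset Polynomial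

section Dual

variable {K k : Type*} [Field K] [Fintype K] [Field k] (j : K →+* k)

/-- the dual functionals of the monomials -/
theorem exists_dual (e : ℕ) : ∃ μ : K → k, ∀ e' < Fintype.card K,
    ∑ a, μ a * j a ^ e' = if e' = e then 1 else 0 := by
  classical
  refine ⟨fun a => (Lagrange.basis univ j a).coeff e, fun e' he' => ?_⟩
  have h := Lagrange.eq_interpolate (s := (univ : Finset K)) (v := j) (f := (X : k[X]) ^ e') j.injective.injOn
    (by rw [degree_X_pow]; exact_mod_cast he')
  have h1 := congrArg (fun p => p.coeff e) h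
  simp only [Lagrange.interpolate_apply, finsetSum_coeff, eval_pow, eval_X, coeff_C_mul] at h1
  rw [coeff_X_pow] at h1
  rw [Finset.sum_congr rfl fun a _ => mul_comm _ _, ← h1]
  simp only [eq_comm]

/-- product of powers -/
def pw (α : Multiset ℕ) (a : K) : k := (α.map fun i => j a ^ 2 ^ i).prod

theorem pw_add (α β : Multiset ℕ) (a : K) : pw j (α + β) a = pw j α a * pw j β a := by
  simp [pw]

theorem pw_cons (i : ℕ) (α : Multiset ℕ) (a : K) : pw j (i ::ₘ α) a = j a ^ 2 ^ i * pw j α a := by
  simp [pw]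

theorem pw_zero (a : K) : pw j 0 a = 1 := by simp [pw]

theorem pw_finset (A : Finset ℕ) (a : K) : pw j A.val a = j a ^ ∑ i ∈ A, 2 ^ i := by
  rw [← Finset.prod_pow_eq_pow_sum]
  rfl

variable {N : ℕ} (hK : Fintype.card K = 2 ^ N)
include hK

theorem pow_mod (i : ℕ) (a : K) : j a ^ 2 ^ i = j a ^ 2 ^ (i % N) := by
  conv_lhs => rw [← Nat.div_add_mod i N, pow_add, pow_mul, pow_mul, ← hK, ← map_pow, FiniteField.pow_card_pow]

theorem exists_red : ∀ (n : ℕ) (α : Multiset ℕ), α.card = n → 0 < N →
    ∃ A : Finset ℕ, A ⊆ range N ∧ A.card ≤ n ∧ ∀ a, pw j α a = pw j A.val a := by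
  intro n
  induction n using Nat.strong_induction_on with
  | _ n ih =>
    intro α hα hN
    set β := α.map (· % N) with hβ
    have hc : β.card = n := by rw [hβ, Multiset.card_map, hα]
    have hp : ∀ a, pw j α a = pw j β a := by
      intro a
      rw [hβ, pw, pw, Multiset.map_map]
      congr 1
      exact Multiset.map_congr rfl fun i _ => pow_mod j hK i a
    by_cases hd : β.Nodup
    · refine ⟨⟨β, hd⟩, ?_, hc.le, hp⟩
      intro x hx
      rw [Finset.mem_def] at hx
      obtain ⟨y, _, rfl⟩ := Multiset.mem_map.1 hx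
      exact mem_range.2 (Nat.mod_lt _ hN)
    · rw [Multiset.nodup_iff_le] at hd
      push Not at hd
      obtain ⟨i, hi⟩ := hd
      obtain ⟨γ, hγ⟩ := Multiset.le_iff_exists_add.1 hi
      have hγc : γ.card + 2 = n := by
        rw [← hc, hγ]
        simp
      obtain ⟨A, hA, hAc, hAp⟩ := ih (γ.card + 1) (by omega) ((i + 1) ::ₘ γ) (by simp) hN
      refine ⟨A, hA, by omega, fun a => ?_⟩
      rw [hp, ← hAp, hγ, pw_cons]
      simp only [pw_add, pw_cons, pw_zero]
      rw [pow_succ 2 i, pow_mul, pow_two]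
      ring

end Dual

section Main

variable {K k : Type*} [Field K] [Fintype K] [Field k] (j : K →+* k)

/-- monomials in two variables -/
def pm (α β : Multiset ℕ) : K × K → k := fun x => pw j α x.1 * pw j β x.2

theorem pm_mul (α β α' β' : Multiset ℕ) : pm j α β * pm j α' β' = pm j (α + α') (β + β') := by
  funext x
  simp only [pm, Pi.mul_apply, pw_add]
  ring

/-- combinations of monomials of weight `< n` -/
def T (n : ℕ) : Submodule k (K × K → k) :=
  Submodule.span k {f | ∃ α β : Multiset ℕ, α.card + 2 * β.card < n ∧ pm j α β = f}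

theorem pm_mem {α β : Multiset ℕ} {n : ℕ} (h : α.card + 2 * β.card < n) : pm j α β ∈ T j n :=
  Submodule.subset_span ⟨α, β, h, rfl⟩

theorem T_mono {m n : ℕ} (h : m ≤ n) : T j m ≤ T j n := by
  refine Submodule.span_mono ?_
  rintro f ⟨α, β, h1, rfl⟩
  exact ⟨α, β, by omega, rfl⟩

theorem mul_mem_T {n n' : ℕ} {f g : K × K → k} (hf : f ∈ T j n) (hg : g ∈ T j (n' + 1)) : f * g ∈ T j (n + n') := by
  unfold T at hf hg
  induction hf using Submodule.span_induction with
  | mem x hx =>
    obtain ⟨α, β, h1, rfl⟩ := hx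
    induction hg using Submodule.span_induction with
    | mem y hy =>
      obtain ⟨α', β', h2, rfl⟩ := hy
      rw [pm_mul]
      refine pm_mem j ?_
      rw [Multiset.card_add, Multiset.card_add]
      omega
    | zero => rw [mul_zero]; exact zero_mem _
    | add y z _ _ hy hz => rw [mul_add]; exact add_mem hy hz
    | smul a y _ hy => rw [mul_smul_comm]; exact Submodule.smul_mem _ _ hy
  | zero => rw [zero_mul]; exact zero_mem _
  | add x y _ _ hx hy => rw [add_mul]; exact add_mem hx hy
  | smul a x _ hx => rw [smul_mul_assoc]; exact Submodule.smul_mem _ _ hx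

/-- the last coordinate -/
def zz (M : ℕ) (a b : K) : K := a * b + a ^ 2 * a ^ 2 ^ M + b ^ 2 ^ M

/-- the coordinates of a point of the ovoid -/
def rr (M : ℕ) (x : K × K) : Fin 4 → K := ![1, x.1, x.2, zz M x.1 x.2]

/-- the first set of digits -/
def dA (t : ℕ) (i : Fin 4) : Multiset ℕ := if i = 1 ∨ i = 3 then {t} else 0

/-- the second set of digits -/
def dB (t : ℕ) (i : Fin 4) : Multiset ℕ := if i = 2 ∨ i = 3 then {t} else 0

variable [CharP K 2] (M : ℕ)

/-- one factor -/
theorem factor (t : ℕ) (i : Fin 4) :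
    (fun x => j (rr M x i) ^ 2 ^ t) - pm j (dA t i) (dB t i) ∈ T j ((dA t i).card + 2 * (dB t i).card) := by
  have hch : CharP k 2 := charP_of_injective_ringHom j.injective 2
  fin_cases i
  · have : (fun x : K × K => j (rr M x 0) ^ 2 ^ t) - pm j (dA t 0) (dB t 0) = 0 := by
      funext x
      simp [rr, dA, dB, pm, pw_zero]
    change (fun x : K × K => j (rr M x 0) ^ 2 ^ t) - pm j (dA t 0) (dB t 0) ∈ _
    rw [this]
    exact zero_mem _
  · have : (fun x : K × K => j (rr M x 1) ^ 2 ^ t) - pm j (dA t 1) (dB t 1) = 0 := by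
      funext x
      simp [rr, dA, dB, pm, pw]
    change (fun x : K × K => j (rr M x 1) ^ 2 ^ t) - pm j (dA t 1) (dB t 1) ∈ _
    rw [this]
    exact zero_mem _
  · have : (fun x : K × K => j (rr M x 2) ^ 2 ^ t) - pm j (dA t 2) (dB t 2) = 0 := by
      funext x
      simp [rr, dA, dB, pm, pw]
    change (fun x : K × K => j (rr M x 2) ^ 2 ^ t) - pm j (dA t 2) (dB t 2) ∈ _
    rw [this]
    exact zero_mem _
  · have : (fun x : K × K => j (rr M x 3) ^ 2 ^ t) - pm j (dA t 3) (dB t 3) =
        pm j {t + 1, t + M} 0 + pm j 0 {t + M} := by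
      have : Fact (Nat.Prime 2) := ⟨Nat.prime_two⟩
      funext x
      have e1 : j (rr M x 3) ^ 2 ^ t = (j x.1 * j x.2) ^ 2 ^ t + (j x.1 ^ 2 * j x.1 ^ 2 ^ M) ^ 2 ^ t +
          (j x.2 ^ 2 ^ M) ^ 2 ^ t := by
        change j (zz M x.1 x.2) ^ 2 ^ t = _
        rw [zz, map_add, map_add, map_mul, map_mul, map_pow, map_pow, map_pow, add_pow_char_pow, add_pow_char_pow]
      rw [Pi.sub_apply, e1]
      simp only [pm, Pi.add_apply, dA, dB, pw, Multiset.map_singleton, Multiset.prod_singleton,
        or_true, if_true, Multiset.map_zero, Multiset.prod_zero, Multiset.insert_eq_cons, Multiset.map_cons,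
        Multiset.prod_cons, mul_one, one_mul]
      rw [mul_pow, mul_pow, ← pow_mul, ← pow_mul, ← pow_mul, ← pow_succ', ← pow_add 2 M t, add_comm M t]
      ring
    change (fun x : K × K => j (rr M x 3) ^ 2 ^ t) - pm j (dA t 3) (dB t 3) ∈ _
    rw [this]
    have hA : (dA t 3).card = 1 := by simp [dA]
    have hB : (dB t 3).card = 1 := by simp [dB]
    change _ ∈ T j ((dA t 3).card + 2 * (dB t 3).card)
    rw [hA, hB]
    exact add_mem (pm_mem j (by simp)) (pm_mem j (by simp))

/-- the function of a set of digits -/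
def Fn (I : Finset ℕ) (i : ℕ → Fin 4) : K × K → k := fun x => ∏ t ∈ I, j (rr M x (i t)) ^ 2 ^ t

/-- the leading monomial -/
def sA (I : Finset ℕ) (i : ℕ → Fin 4) : Multiset ℕ := ∑ t ∈ I, dA t (i t)

/-- the leading monomial -/
def sB (I : Finset ℕ) (i : ℕ → Fin 4) : Multiset ℕ := ∑ t ∈ I, dB t (i t)

theorem Fn_sub (I : Finset ℕ) (i : ℕ → Fin 4) :
    Fn j M I i - pm j (sA I i) (sB I i) ∈ T j ((sA I i).card + 2 * (sB I i).card) := by
  classical
  induction I using Finset.induction_on with
  | empty =>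
    have : Fn j M ∅ i - pm j (sA ∅ i) (sB ∅ i) = 0 := by
      funext x
      simp [Fn, pm, sA, sB, pw_zero]
    rw [this]
    exact zero_mem _
  | insert t I ht ih =>
    have e1 : Fn j M (insert t I) i = (fun x => j (rr M x (i t)) ^ 2 ^ t) * Fn j M I i := by
      funext x
      rw [Fn, Finset.prod_insert ht]
      rfl
    have e2 : sA (insert t I) i = dA t (i t) + sA I i := by rw [sA, Finset.sum_insert ht]; rfl
    have e3 : sB (insert t I) i = dB t (i t) + sB I i := by rw [sB, Finset.sum_insert ht]; rfl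
    have h1 := factor j M t (i t)
    set G : K × K → k := fun x => j (rr M x (i t)) ^ 2 ^ t with hG
    set p := pm j (dA t (i t)) (dB t (i t)) with hp
    set q := pm j (sA I i) (sB I i) with hq
    have hq' : Fn j M I i ∈ T j ((sA I i).card + 2 * (sB I i).card + 1) := by
      have h2 : q ∈ T j ((sA I i).card + 2 * (sB I i).card + 1) := pm_mem j (by omega)
      have h3 := add_mem (T_mono j (Nat.le_succ _) ih) h2
      rwa [sub_add_cancel] at h3
    have hp' : p ∈ T j ((dA t (i t)).card + 2 * (dB t (i t)).card + 1) := pm_mem j (by omega)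
    have e4 : Fn j M (insert t I) i - pm j (sA (insert t I) i) (sB (insert t I) i) =
        (G - p) * Fn j M I i + (Fn j M I i - q) * p := by
      rw [e1, e2, e3, ← pm_mul, ← hp, ← hq]
      ring
    rw [e4, e2, e3, Multiset.card_add, Multiset.card_add]
    refine add_mem ?_ ?_
    · have h5 := mul_mem_T j h1 hq'
      exact T_mono j (by omega) h5
    · have h5 := mul_mem_T j ih hp'
      exact T_mono j (by omega) h5

theorem mem_dA {t s : ℕ} {i : Fin 4} : s ∈ dA t i ↔ s = t ∧ (i = 1 ∨ i = 3) := by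
  unfold dA
  split_ifs with h
  · simp [h]
  · simp [h]

theorem mem_dB {t s : ℕ} {i : Fin 4} : s ∈ dB t i ↔ s = t ∧ (i = 2 ∨ i = 3) := by
  unfold dB
  split_ifs with h
  · simp [h]
  · simp [h]

theorem sA_eq (I : Finset ℕ) (i : ℕ → Fin 4) : sA I i = (I.filter fun t => i t = 1 ∨ i t = 3).val := by
  classical
  induction I using Finset.induction_on with
  | empty => simp [sA]
  | insert t I ht ih =>
    have e2 : sA (insert t I) i = dA t (i t) + sA I i := by rw [sA, Finset.sum_insert ht]; rfl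
    rw [e2, ih, Finset.filter_insert]
    unfold dA
    split_ifs with h
    · rw [Finset.insert_val_of_notMem (by simp [ht])]
      rfl
    · rw [zero_add]

theorem sB_eq (I : Finset ℕ) (i : ℕ → Fin 4) : sB I i = (I.filter fun t => i t = 2 ∨ i t = 3).val := by
  classical
  induction I using Finset.induction_on with
  | empty => simp [sB]
  | insert t I ht ih =>
    have e2 : sB (insert t I) i = dB t (i t) + sB I i := by rw [sB, Finset.sum_insert ht]; rfl
    rw [e2, ih, Finset.filter_insert]
    unfold dB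
    split_ifs with h
    · rw [Finset.insert_val_of_notMem (by simp [ht])]
      rfl
    · rw [zero_add]

variable {N : ℕ} (hK : Fintype.card K = 2 ^ N) (hN : 0 < N)
include hK hN

omit [CharP K 2] in
/-- the functional of a leading monomial -/
theorem exists_fun (A B : Finset ℕ) : ∃ ℓ : (K × K → k) →ₗ[k] k,
    (∀ A' B' : Finset ℕ, A' ⊆ range N → B' ⊆ range N → ℓ (pm j A'.val B'.val) = if A' = A ∧ B' = B then 1 else 0) ∧
      ∀ f ∈ T j (A.card + 2 * B.card), ℓ f = 0 := by
  classical
  obtain ⟨μ, hμ⟩ := exists_dual j (∑ i ∈ A, 2 ^ i)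
  obtain ⟨ν, hν⟩ := exists_dual j (∑ i ∈ B, 2 ^ i)
  let ℓ : (K × K → k) →ₗ[k] k :=
    { toFun := fun f => ∑ a, ∑ b, μ a * ν b * f (a, b)
      map_add' := fun f g => by
        simp only [Pi.add_apply, mul_add, Finset.sum_add_distrib]
      map_smul' := fun c f => by
        simp only [Pi.smul_apply, smul_eq_mul, RingHom.id_apply, Finset.mul_sum]
        refine Finset.sum_congr rfl fun a _ => Finset.sum_congr rfl fun b _ => by ring }
  have hinj := Finset.geomSum_injective (n := 2) le_rfl
  have h1 : ∀ A' B' : Finset ℕ, A' ⊆ range N → B' ⊆ range N →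
      ℓ (pm j A'.val B'.val) = if A' = A ∧ B' = B then 1 else 0 := by
    intro A' B' hA' hB'
    have hlt : ∀ C : Finset ℕ, C ⊆ range N → ∑ i ∈ C, 2 ^ i < Fintype.card K := fun C hC => by
      rw [hK]
      exact Nat.geomSum_lt le_rfl fun x hx => mem_range.1 (hC hx)
    have h2 : ℓ (pm j A'.val B'.val) =
        (∑ a, μ a * j a ^ (∑ i ∈ A', 2 ^ i)) * ∑ b, ν b * j b ^ (∑ i ∈ B', 2 ^ i) := by
      change ∑ a, ∑ b, μ a * ν b * (pw j A'.val a * pw j B'.val b) = _
      rw [Finset.sum_mul_sum]
      refine Finset.sum_congr rfl fun a _ => Finset.sum_congr rfl fun b _ => ?_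
      rw [pw_finset, pw_finset]
      ring
    rw [h2, hμ _ (hlt A' hA'), hν _ (hlt B' hB')]
    have e1 : (∑ i ∈ A', 2 ^ i = ∑ i ∈ A, 2 ^ i) ↔ A' = A := hinj.eq_iff
    have e2 : (∑ i ∈ B', 2 ^ i = ∑ i ∈ B, 2 ^ i) ↔ B' = B := hinj.eq_iff
    simp only [e1, e2]
    split_ifs <;> simp_all
  refine ⟨ℓ, h1, fun f hf => ?_⟩
  unfold T at hf
  induction hf using Submodule.span_induction with
  | mem x hx =>
    obtain ⟨α, β, hlt, rfl⟩ := hx
    obtain ⟨A', hA', hAc, hAp⟩ := exists_red j hK _ α rfl hN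
    obtain ⟨B', hB', hBc, hBp⟩ := exists_red j hK _ β rfl hN
    have e : pm j α β = pm j A'.val B'.val := by
      funext x
      simp only [pm, hAp, hBp]
    rw [e, h1 A' B' hA' hB', if_neg]
    rintro ⟨rfl, rfl⟩
    omega
  | zero => exact map_zero _
  | add x y _ _ hx hy => rw [map_add, hx, hy, add_zero]
  | smul a x _ hx => rw [map_smul, hx, smul_zero]

/-- extension of a choice of coordinates -/
def ex {I : Finset ℕ} (i : I → Fin 4) (t : ℕ) : Fin 4 := if h : t ∈ I then i ⟨t, h⟩ else 0

omit [Field K] [Fintype K] [Field k] [CharP K 2] hK hN in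
theorem Fn_ex_aux {I : Finset ℕ} (i : I → Fin 4) (t : I) : ex i t = i t := by
  unfold ex
  rw [dif_pos t.2]

/-- **The functions of the big cell are linearly independent.** -/
theorem linInd {I : Finset ℕ} (hI : I ⊆ range N) :
    LinearIndependent k (fun i : I → Fin 4 => (fun x : K × K => ∏ t : I, j (rr M x (i t)) ^ 2 ^ (t : ℕ))) := by
  classical
  have hFn : ∀ i : I → Fin 4, (fun x : K × K => ∏ t : I, j (rr M x (i t)) ^ 2 ^ (t : ℕ)) = Fn j M I (ex i) := by
    intro i
    funext x
    rw [Fn, ← Finset.prod_coe_sort (s := I) (f := fun t : ℕ => j (rr M x (ex i t)) ^ 2 ^ t)]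
    refine Finset.prod_congr rfl fun t _ => ?_
    rw [Fn_ex_aux]
  rw [funext hFn]
  rw [Fintype.linearIndependent_iff]
  intro g hg
  by_contra hcon
  push Not at hcon
  obtain ⟨i1, hi1⟩ := hcon
  obtain ⟨i0, hi0, hmax⟩ := Finset.exists_max_image (univ.filter fun i => g i ≠ 0)
    (fun i => (sA I (ex i)).card + 2 * (sB I (ex i)).card) ⟨i1, by simp [hi1]⟩
  rw [Finset.mem_filter] at hi0
  apply hi0.2
  set A := I.filter fun t => ex i0 t = 1 ∨ ex i0 t = 3 with hA
  set B := I.filter fun t => ex i0 t = 2 ∨ ex i0 t = 3 with hB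
  obtain ⟨ℓ, h1, h2⟩ := exists_fun j hK hN A B
  have hAI : ∀ i : I → Fin 4, (I.filter fun t => ex i t = 1 ∨ ex i t = 3) ⊆ range N := fun i =>
    (Finset.filter_subset _ _).trans hI
  have hBI : ∀ i : I → Fin 4, (I.filter fun t => ex i t = 2 ∨ ex i t = 3) ⊆ range N := fun i =>
    (Finset.filter_subset _ _).trans hI
  have hval : ∀ i, (sA I (ex i)).card + 2 * (sB I (ex i)).card ≤ A.card + 2 * B.card →
      ℓ (Fn j M I (ex i)) = if i = i0 then 1 else 0 := by
    intro i hi
    have h3 := h2 _ (T_mono j hi (Fn_sub j M I (ex i)))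
    rw [map_sub, sub_eq_zero, sA_eq, sB_eq, h1 _ _ (hAI i) (hBI i)] at h3
    rw [h3]
    by_cases hii : i = i0
    · subst hii
      rw [if_pos rfl, if_pos ⟨rfl, rfl⟩]
    · rw [if_neg hii, if_neg]
      rintro ⟨e1, e2⟩
      apply hii
      funext t
      have e3 := Finset.ext_iff.1 e1 t
      have e4 := Finset.ext_iff.1 e2 t
      rw [hA, Finset.mem_filter, Finset.mem_filter, Fn_ex_aux, Fn_ex_aux] at e3
      rw [hB, Finset.mem_filter, Finset.mem_filter, Fn_ex_aux, Fn_ex_aux] at e4
      simp only [Finset.coe_mem, true_and] at e3 e4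
      generalize i t = u at e3 e4 ⊢
      generalize i0 t = v at e3 e4 ⊢
      revert u v
      decide
  have hcard : A.card + 2 * B.card = (sA I (ex i0)).card + 2 * (sB I (ex i0)).card := by
    rw [sA_eq, sB_eq]
    rfl
  have h4 := congrArg ℓ hg
  rw [map_sum, map_zero, Finset.sum_eq_single i0] at h4
  · rwa [map_smul, hval i0 hcard.ge, if_pos rfl, smul_eq_mul, mul_one] at h4
  · intro i _ hi
    rw [map_smul]
    by_cases hgi : g i = 0
    · rw [hgi, zero_smul]
    · rw [hval i ((hmax i (by simp [hgi])).trans hcard.ge), if_neg hi, smul_zero]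
  · intro h
    exact absurd (Finset.mem_univ _) h

end Main

end Cfsg.Agent.H991.SzDim
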