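import Cfsg.Agent.H991.SzDim.Kernel
import Cfsg.Agent.H991.SzDim.Indep

/-!
# The simple modules of the Suzuki groups in characteristic two (helper991)

* `sz_dim` : `P ≤ GL(ι, F)` perfect, absolutely irreducible, `P / scalars ≅ Sz(K)`, `char F = 2`: `|ι| = 4 ^ s`,
  `1 ≤ s ≤ 2 m + 1`;
* `sz_four` : `|ι| ≤ 15` implies `|ι| = 4`; `sz_six`.
-/

set_option autoImplicit false
set_option linter.unusedSectionVars false
set_option linter.style.haveILetI false

namespace Cfsg.Agent.H991.SzDim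

open Matrix CoxeterSystem Cfsg.Agent.ChevalleyStructure.CoxeterGeom Cfsg.Agent.Tits.Roots Cfsg.Agent.Tits.Core
  Cfsg.Agent.Nodes.Reps Cfsg.Agent.Nodes.BNOf Cfsg.Agent.Nodes.Bruhat Cfsg.Agent.Omega.CR
  Cfsg.Agent.Omega.FOne.Lift.Sd Cfsg.Agent.Nodes.RootsA Cfsg.Agent.H911 Cfsg.Agent.Nodes.RGDLib
  Cfsg.Agent.Nodes.OppDec Cfsg.Agent.H905.Md
open Cfsg.Agent.LieRecognition.BNCox (cA cA_apply)
open Cfsg Cfsg.Geo Cfsg.Agent.H67
open Cfsg.Agent.LieRecognition.SzMatrix
open scoped MatrixGroups commutatorElement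

/-- a finite field embeds in every algebraically closed field of the same characteristic -/
theorem exists_emb (K k : Type*) [Field K] [Finite K] [Field k] [IsAlgClosed k] (p : ℕ) [hp : Fact p.Prime]
    [CharP K p] [CharP k p] : Nonempty (K →+* k) := by
  let _ : Algebra (ZMod p) K := ZMod.algebra K p
  let _ : Algebra (ZMod p) k := ZMod.algebra k p
  have : Module.Finite (ZMod p) K := Module.Finite.of_finite
  exact ⟨(IsAlgClosed.lift (R := ZMod p) (S := K) (M := k)).toRingHom⟩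

/-- characters of the multiplicative group of a finite field -/
theorem exists_exp {K k : Type*} [Field K] [Fintype K] [Field k] (j : K →+* k) (a : Kˣ →* kˣ) :
    ∃ e, 1 ≤ e ∧ e ≤ Fintype.card K - 1 ∧ ∀ s : Kˣ, (a s : k) = j s ^ e := by
  classical
  obtain ⟨ζ, hζ⟩ := IsCyclic.exists_generator (α := Kˣ)
  have hord : orderOf ζ = Fintype.card K - 1 := by
    rw [orderOf_eq_card_of_forall_mem_zpowers hζ, Nat.card_eq_fintype_card, Fintype.card_units]
  have hpos : 0 < Fintype.card K - 1 := by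
    rw [← hord]; exact orderOf_pos ζ
  have hprim : IsPrimitiveRoot (j (ζ : K)) (Fintype.card K - 1) := by
    rw [← hord, ← orderOf_units]
    exact (IsPrimitiveRoot.orderOf (ζ : K)).map_of_injective j.injective
  have h1 : (a ζ : k) ^ (Fintype.card K - 1) = 1 := by
    rw [← hord, ← Units.val_pow_eq_pow_val, ← map_pow, pow_orderOf_eq_one, map_one, Units.val_one]
  have : NeZero (Fintype.card K - 1) := ⟨hpos.ne'⟩
  obtain ⟨e, he, h2⟩ := hprim.eq_pow_of_pow_eq_one h1
  have h3 : ∀ s : Kˣ, (a s : k) = j s ^ e := by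
    intro s
    obtain ⟨m, hm⟩ := (mem_powers_iff_mem_zpowers.2 (hζ s) : s ∈ Submonoid.powers ζ)
    have hm' : ζ ^ m = s := hm
    rw [← hm', map_pow, Units.val_pow_eq_pow_val, Units.val_pow_eq_pow_val, map_pow, ← h2, ← pow_mul, ← pow_mul,
      mul_comm]
  rcases Nat.eq_zero_or_pos e with rfl | h4
  · refine ⟨Fintype.card K - 1, by omega, le_rfl, fun s => ?_⟩
    rw [h3, pow_zero, ← map_pow, FiniteField.pow_card_sub_one_eq_one _ (Units.ne_zero s), map_one]
  · exact ⟨e, h4, by omega, h3⟩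

section Coord

variable {K : Type*} [Field K] {θ : K →+* K} {e : ℕ} (H : Good K θ e)

theorem row_u {M : ℕ} (hθ : ∀ x, θ x = x ^ 2 ^ M) (x : K × K) (i : Fin 4) :
    (H.u x.1 x.2).1.1 0 i = rr M x i := by
  change Umat θ x.1 x.2 0 i = _
  fin_cases i
  · rfl
  · rfl
  · rfl
  · change x.1 * x.2 + x.1 ^ 2 * θ x.1 + θ x.2 = zz M x.1 x.2
    rw [zz, hθ, hθ]

theorem col_wuw {M : ℕ} (hθ : ∀ x, θ x = x ^ 2 ^ M) (x : K × K) (i : Fin 4) :
    (H.w * H.u x.1 (x.2 + x.1 * θ x.1) * H.w).1.1 i 0 = rr M x i := by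
  have h0 := H.two
  change (LieRecognition.SzMatrix.J K * Umat θ x.1 (x.2 + x.1 * θ x.1) * LieRecognition.SzMatrix.J K) i 0 = _
  fin_cases i
  · simp [LieRecognition.SzMatrix.J, Umat, Matrix.mul_apply, Fin.sum_univ_four, rr]
  · simp [LieRecognition.SzMatrix.J, Umat, Matrix.mul_apply, Fin.sum_univ_four, rr]
  · simp [LieRecognition.SzMatrix.J, Umat, Matrix.mul_apply, Fin.sum_univ_four, rr]
    linear_combination (x.1 * θ x.1) * h0
  · simp [LieRecognition.SzMatrix.J, Umat, Matrix.mul_apply, Fin.sum_univ_four, rr, zz, ← hθ, H.sq]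
    linear_combination (x.1 ^ 2 * θ x.1) * h0

theorem mul_zz (g y : ↥(Cfsg.Lie.Sz K e)) : (g * y).1.1 0 0 = ∑ i, g.1.1 0 i * y.1.1 i 0 := by
  change (g.1.1 * y.1.1) 0 0 = _
  rw [Matrix.mul_apply]

theorem zz_wb {b : ↥(Cfsg.Lie.Sz K e)} : (H.w * b).1.1 0 0 = b.1.1 3 0 := by
  rw [mul_zz]
  change ∑ i, LieRecognition.SzMatrix.J K 0 i * b.1.1 i 0 = _
  simp [LieRecognition.SzMatrix.J, Fin.sum_univ_four]

theorem zz_big (a b c d : K) (t : Kˣ) : (H.w * H.u a b * H.w * (H.d t * H.u c d)).1.1 0 0 = t := by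
  change (LieRecognition.SzMatrix.J K * Umat θ a b * LieRecognition.SzMatrix.J K * (Dmat θ t * Umat θ c d)) 0 0 = t
  simp [LieRecognition.SzMatrix.J, Umat, Dmat, Matrix.mul_apply, Fin.sum_univ_four]

end Coord

section Dim

variable {K : Type*} [Field K] {F : Type*} [Field F] [Finite F] {ι : Type} [Fintype ι] [DecidableEq ι]
  {P : Subgroup (GL ι F)}

/-- **The dimensions of the simple modules of the Suzuki groups in characteristic two.** -/
theorem sz_dim [CharP F 2] (hP : ActsAbsolutelyIrreducibly (matrixSet P)) (hperf : ⁅P, P⁆ = P) [Fintype K] {m : ℕ}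
    (hm : 1 ≤ m) (hK : Fintype.card K = 2 ^ (2 * m + 1))
    (Φ : (P ⧸ (scalars ι F).subgroupOf P) ≃* Cfsg.Lie.Sz K (2 ^ (m + 1))) :
    ∃ s, 1 ≤ s ∧ s ≤ 2 * m + 1 ∧ Fintype.card ι = 4 ^ s := by
  classical
  have : Fact (Nat.Prime 2) := ⟨Nat.prime_two⟩
  have h2 := nonempty_of_noncomm Φ (SzOdd.not_commute hK)
  haveI : Nonempty ι := Fintype.card_pos_iff.1 (by omega)
  have hKch : CharP K 2 := charP_two hK
  have H := good hK
  obtain ⟨φ, hφ, -, -⟩ := exists_cover (p := 2) hperf Φ (SzOdd.perfect_sz hm hK)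
    (fun r hr hne => SzOdd.noPCov_odd hm hK hr hne) (πG := MonoidHom.id _) Function.surjective_id
    (by rw [(MonoidHom.ker_eq_bot_iff _).2 Function.injective_id]; exact bot_le)
  set k := AlgebraicClosure F with hk
  have hkch : CharP k 2 := charP_of_injective_algebraMap (algebraMap F _).injective 2
  set ρ := lin (acRep φ) with hρ
  have hirr : ∀ L : Submodule k (ι → k), Ivt ρ ⊤ L → L = ⊥ ∨ L = ⊤ := fun L hL =>
    acRep_irr hφ (H920.span_eq_top hP) rfl L hL
  have hfr : Module.finrank k (ι → k) = Fintype.card ι := Module.finrank_fintype_fun_eq_card k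
  haveI : Finite (cA 1).Group := finite_W (cA 1).toCoxeterSystem (isCartan 1)
  obtain ⟨c, ψ, χ, hc1, hcU, hψU, hχ, hn⟩ := exists_coeff (cA 1).toCoxeterSystem (isCartan 1) (sz_sp1 hK H)
    (szT_comm H) hirr (by rw [hfr]; exact h2)
  have hc0 : c ≠ 0 := by
    rintro rfl
    rw [map_zero] at hc1
    exact zero_ne_one hc1
  have hψ0 : ψ ≠ 0 := by
    rintro rfl
    exact zero_ne_one hc1
  -- the character
  obtain ⟨j⟩ := exists_emb K k 2
  have hχd : ∀ a : Kˣ, ρ (H.d a) c = χ (H.d a) • c := fun a => hχ _ ⟨a, rfl⟩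
  let f : Kˣ →* k :=
    { toFun := fun a => χ (H.d a)
      map_one' := by
        have h1 := hχd 1
        rw [H.d_one, map_one] at h1
        rw [H.d_one]
        refine (smul_left_injective k hc0 ?_).symm
        change (1 : k) • c = χ 1 • c
        rw [← h1, one_smul]
        rfl
      map_mul' := fun a b => by
        refine smul_left_injective k hc0 ?_
        change χ (H.d (a * b)) • c = (χ (H.d a) * χ (H.d b)) • c
        rw [← hχd, ← H.d_mul, rho_mul, hχd b, map_smul, hχd a, smul_smul, mul_comm] }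
  obtain ⟨e, he1, he2, hje⟩ := exists_exp j f.toHomUnits
  have hje' : ∀ a : Kˣ, χ (H.d a) = j a ^ e := fun a => hje a
  -- the coefficient
  have hcoef : ∀ g : ↥(Cfsg.Lie.Sz K (2 ^ (m + 1))), ψ (ρ g c) = j (g.1.1 0 0) ^ e := by
    intro g
    rcases (sz_sp1 hK H).br (H.w * g) with ⟨u, hu, t, ht, h3⟩ | ⟨u, hu, t, ht, v, hv, h3⟩
    · have h4 : g = H.w * (u * t) := by rw [← h3, ← mul_assoc, H.w_mul_w, one_mul]
      have h5 : ψ (ρ g c) = 0 := by
        have h6 : g = H.w * (t * (t⁻¹ * u * t)) := by rw [h4]; group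
        have h7 : t⁻¹ * u * t ∈ H.unip := by
          have := (sz_sp1 hK H).tu t⁻¹ (inv_mem ht) u hu
          rwa [inv_inv] at this
        rw [h6, rho_mul, rho_mul, hcU _ h7, hχ t ht, map_smul, map_smul, hn, smul_zero]
      have h6 : g.1.1 0 0 = 0 := by
        rw [h4, zz_wb]
        obtain ⟨k', rfl⟩ := ht
        exact mul_mem (H.unip_le_borel hu) (H.d_mem_borel k')
      rw [h5, h6, map_zero, zero_pow (by omega)]
    · obtain ⟨a, rfl⟩ := ht
      obtain ⟨x, y, rfl⟩ := (H.mem_unip_iff _).1 hu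
      obtain ⟨z, w, rfl⟩ := (H.mem_unip_iff _).1 hv
      have h4 : g = H.w * H.u x y * H.w * (H.d a⁻¹ * H.u z w) := by
        have h5 : g = H.w * (H.u x y * H.d a * H.w * H.u z w) := by rw [← h3, ← mul_assoc, H.w_mul_w, one_mul]
        rw [h5]
        have h6 : H.d a * H.w = H.w * H.d a⁻¹ := by rw [H.w_mul_d, inv_inv]
        simp only [mul_assoc]
        rw [← mul_assoc (H.d a), h6]
        simp only [mul_assoc]
      have h5 : ψ (ρ g c) = χ (H.d a⁻¹) := by
        have h6 : g = (H.w * H.u x y * (H.w)⁻¹) * (H.d a⁻¹ * H.u z w) := by rw [h4, H.w_inv]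
        rw [h6, rho_mul, hψU _ (H.u_mem_unip x y), rho_mul, hcU _ (H.u_mem_unip z w), hχd, map_smul, hc1, smul_eq_mul,
          mul_one]
      rw [h5, h4, zz_big, hje']
  -- the digits
  set I : Finset ℕ := e.bitIndices.toFinset with hI
  have hsum : ∑ i ∈ I, 2 ^ i = e := by
    rw [hI, List.sum_toFinset _ Nat.bitIndices_nodup]
    exact Nat.sum_map_two_pow_bitIndices e
  have hIr : I ⊆ Finset.range (2 * m + 1) := by
    intro i hi
    rw [Finset.mem_range]
    by_contra hcon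
    have h3 : 2 ^ i ≤ ∑ i ∈ I, 2 ^ i := Finset.single_le_sum (f := fun i => 2 ^ i) (fun _ _ => Nat.zero_le _) hi
    rw [hsum] at h3
    have h4 : 2 ^ (2 * m + 1) ≤ 2 ^ i := Nat.pow_le_pow_right (by norm_num) (by omega)
    have h5 : 0 < 2 ^ (2 * m + 1) := by positivity
    omega
  have hI0 : I.Nonempty := by
    rw [Finset.nonempty_iff_ne_empty]
    intro h0
    rw [h0, Finset.sum_empty] at hsum
    omega
  -- the kernel
  let Pf : ↥(Cfsg.Lie.Sz K (2 ^ (m + 1))) → (I → Fin 4) → k := fun g a => ∏ t : I, j (g.1.1 0 (a t)) ^ 2 ^ (t : ℕ)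
  let Qf : ↥(Cfsg.Lie.Sz K (2 ^ (m + 1))) → (I → Fin 4) → k := fun g a => ∏ t : I, j (g.1.1 (a t) 0) ^ 2 ^ (t : ℕ)
  have hker : ∀ g y, ψ (ρ (g * y) c) = ∑ a, Pf g a * Qf y a := by
    intro g y
    rw [hcoef, mul_zz, map_sum, ← hsum, ← Finset.prod_pow_eq_pow_sum,
      ← Finset.prod_coe_sort (s := I) (f := fun t => (∑ i, j (g.1.1 0 i * y.1.1 i 0)) ^ 2 ^ t)]
    have h3 : ∀ t : I, (∑ i, j (g.1.1 0 i * y.1.1 i 0)) ^ 2 ^ (t : ℕ) =
        ∑ i : Fin 4, j (g.1.1 0 i) ^ 2 ^ (t : ℕ) * j (y.1.1 i 0) ^ 2 ^ (t : ℕ) := by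
      intro t
      rw [sum_pow_char_pow]
      exact Finset.sum_congr rfl fun i _ => by rw [map_mul, mul_pow]
    rw [Finset.prod_congr rfl fun t _ => h3 t, Fintype.prod_sum]
    refine Finset.sum_congr rfl fun a _ => ?_
    rw [Finset.prod_mul_distrib]
  have hup := finrank_le_of_kernel (G := ⊤) hirr hc0 hψ0 Pf Qf (fun g _ y _ => hker g y)
  have hθ : ∀ x, theta hK x = x ^ 2 ^ (m + 1) := theta_apply hK
  have hlow := card_le_of_kernel Pf Qf hker (S₁ := K × K) (S₂ := K × K) (fun x => H.u x.1 x.2)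
    (fun x => H.w * H.u x.1 (x.2 + x.1 * theta hK x.1) * H.w)
    (by
      have h3 := linInd j (m + 1) hK (by omega) hIr
      convert h3 using 1
      funext a x
      exact Finset.prod_congr rfl fun t _ => by rw [row_u H hθ])
    (by
      have h3 := linInd j (m + 1) hK (by omega) hIr
      convert h3 using 1
      funext a x
      exact Finset.prod_congr rfl fun t _ => by rw [col_wuw H hθ])
  have hcard : Fintype.card (I → Fin 4) = 4 ^ I.card := by simp
  refine ⟨I.card, Finset.card_pos.2 hI0, ?_, ?_⟩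
  · have := Finset.card_le_card hIr
    rwa [Finset.card_range] at this
  · rw [← hcard, ← hfr]
    exact le_antisymm hup hlow

theorem sz_four [CharP F 2] (hP : ActsAbsolutelyIrreducibly (matrixSet P)) (hperf : ⁅P, P⁆ = P) [Fintype K] {m : ℕ}
    (hm : 1 ≤ m) (hK : Fintype.card K = 2 ^ (2 * m + 1))
    (Φ : (P ⧸ (scalars ι F).subgroupOf P) ≃* Cfsg.Lie.Sz K (2 ^ (m + 1))) (hι : Fintype.card ι ≤ 15) :
    Fintype.card ι = 4 := by
  obtain ⟨s, hs1, -, hs⟩ := sz_dim hP hperf hm hK Φ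
  rcases (show s = 1 ∨ 2 ≤ s by omega) with rfl | h
  · rw [hs, pow_one]
  · have : 4 ^ 2 ≤ 4 ^ s := Nat.pow_le_pow_right (by norm_num) h
    omega

theorem sz_six [CharP F 2] (hP : ActsAbsolutelyIrreducibly (matrixSet P)) (hperf : ⁅P, P⁆ = P) [Fintype K] {m : ℕ}
    (hm : 1 ≤ m) (hK : Fintype.card K = 2 ^ (2 * m + 1))
    (Φ : (P ⧸ (scalars ι F).subgroupOf P) ≃* Cfsg.Lie.Sz K (2 ^ (m + 1))) (hι : Fintype.card ι = 6) : False := by
  have := sz_four hP hperf hm hK Φ (by omega)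
  omega

end Dim

end Cfsg.Agent.H991.SzDim
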