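import Cfsg.Agent.H905.MdQ

/-!
# Rank one groups in the defining characteristic: the kernel of a simple module (helper991)

* `exists_coeff` : `c` fixed by `U`, `φ` fixed by `n U n⁻¹`, `φ c = 1`, `φ (n c) = 0`, `t c = χ(t) c`;
* `card_le_of_kernel` : the dimension is at least the rank of the kernel `φ (g y c)`.
-/

set_option autoImplicit false
set_option linter.unusedSectionVars false
set_option linter.style.haveILetI false

namespace Cfsg.Agent.H991.SzDim

open Matrix CoxeterSystem Cfsg.Agent.ChevalleyStructure.CoxeterGeom Cfsg.Agent.Tits.Roots Cfsg.Agent.Tits.Core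
  Cfsg.Agent.Nodes.Reps Cfsg.Agent.Nodes.BNOf Cfsg.Agent.Nodes.Bruhat Cfsg.Agent.Omega.CR
  Cfsg.Agent.Omega.FOne.Lift.Sd Cfsg.Agent.Nodes.RootsA Cfsg.Agent.H911 Cfsg.Agent.Nodes.RGDLib
  Cfsg.Agent.Nodes.OppDec Cfsg.Agent.H905.Md
open Cfsg.Agent.LieRecognition.BNCox (cA cA_apply)
open Cfsg Cfsg.Geo Cfsg.Agent.H67

section One

variable {W : Type*} [Group W] [Finite W] (cs : CoxeterSystem (cA 1) W) {A : Fin 1 → Fin 1 → ℤ} (h : IsCartan (cA 1) A)
  {p : ℕ} [hp : Fact p.Prime] {Y : Type*} [Group Y] [Finite Y] {U T : Subgroup Y} {n : Y}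
  {k V : Type*} [Field k] [CharP k p] [IsAlgClosed k] [AddCommGroup V] [Module k V] [FiniteDimensional k V]

include cs h in
theorem exists_coeff (D : Sp1 p U T n) (hT : ∀ s ∈ T, ∀ t ∈ T, s * t = t * s) {ρ : Y →* Module.End k V}
    (hirr : ∀ L : Submodule k V, Ivt ρ ⊤ L → L = ⊥ ∨ L = ⊤) (hV : 2 ≤ Module.finrank k V) :
    ∃ (c : V) (φ : Module.Dual k V) (χ : Y → k), φ c = 1 ∧ (∀ u ∈ U, ρ u c = c) ∧
      (∀ u ∈ U, ∀ v, φ (ρ (n * u * n⁻¹) v) = φ v) ∧ (∀ t ∈ T, ρ t c = χ t • c) ∧ φ (ρ n c) = 0 := by
  classical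
  have hnt : Nontrivial V := Module.nontrivial_of_finrank_pos (R := k) (by omega)
  have R := D.rgd cs h
  have hG := D.gg cs h
  have hirr' : ∀ L : Submodule k V, Ivt ρ (GG cs h T (X1 U n)) L → L = ⊥ ∨ L = ⊤ := by rw [hG]; exact hirr
  obtain ⟨c, hc, hc0, χ, hχ⟩ := exists_chi R hirr' hT
  obtain ⟨φ, hφ, hφc⟩ := exists_pair_D R hirr' hc hc0
  have hroot : IsRoot cs h (sr 0) := isRoot_sr cs h 0
  have hpos : U ≤ RGD.Sup (X1 U n) (RGD.Pos cs h) := by
    have h1 : X1 U n (sr 0) ≤ RGD.Sup (X1 U n) (RGD.Pos cs h) := by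
      refine RGD.le_Sup (show sr 0 ∈ RGD.Pos cs h from ⟨hroot, ?_⟩)
      intro i
      obtain rfl : i = 0 := Subsingleton.elim _ _
      rw [sr_self]
      exact zero_le_one
    rwa [X1_pos] at h1
  have hneg : cj n U ≤ UN cs h (X1 U n) := by
    have h1 : X1 U n (-sr 0) ≤ UN cs h (X1 U n) := by
      refine RGD.le_Sup (show -sr 0 ∈ Neg cs h from ⟨(isRoot_one cs h).2 (Or.inr rfl), ?_⟩)
      intro i
      obtain rfl : i = 0 := Subsingleton.elim _ _
      rw [Pi.neg_apply, sr_self]
      decide
    rwa [X1_neg] at h1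
  have hcU : ∀ u ∈ U, ρ u c = c := fun u hu => hc u (hpos hu)
  have hφU : ∀ u ∈ U, ∀ v, φ (ρ (n * u * n⁻¹) v) = φ v := fun u hu v =>
    (mem_fx_dual ρ).1 hφ _ (hneg (conj_mem_cj.2 hu)) v
  -- the line is not fixed by everything
  have hnc : φ (ρ n c) = 0 := by
    by_contra hne
    have h1 := mem_WJ_of_pair R hirr' hφ (w := cs.simple 0) (g := n) (rp_simple _ _ 0) hc hne
    have h2 : (0 : Fin 1) ∈ Jx cs h (X1 U n) ρ := by
      by_contra hcon
      have h3 : Jx cs h (X1 U n) ρ = ∅ := by
        rw [Set.eq_empty_iff_forall_notMem]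
        intro i hi
        obtain rfl : i = 0 := Subsingleton.elim _ _
        exact hcon hi
      rw [h3] at h1
      unfold WJ at h1
      rw [Set.image_empty, Subgroup.closure_empty, Subgroup.mem_bot] at h1
      have h4 := cs.length_simple (0 : Fin 1)
      rw [h1, cs.length_one] at h4
      exact zero_ne_one h4
    have h3 : ∀ x ∈ cj n U, ρ x c = c := by
      intro x hx
      refine h2 x ?_ c hc
      rw [X1_neg]
      exact hx
    let S : Subgroup Y :=
      { carrier := {g | ρ g c ∈ Submodule.span k {c}}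
        mul_mem' := fun {a b} ha hb => by
          change ρ (a * b) c ∈ Submodule.span k {c}
          rw [rho_mul]
          obtain ⟨r, hr⟩ := Submodule.mem_span_singleton.1 hb
          rw [← hr, map_smul]
          exact Submodule.smul_mem _ _ ha
        one_mem' := by
          change ρ 1 c ∈ Submodule.span k {c}
          rw [map_one]
          exact Submodule.mem_span_singleton_self c
        inv_mem' := fun {a} ha => by
          change ρ a⁻¹ c ∈ Submodule.span k {c}
          obtain ⟨r, hr⟩ := Submodule.mem_span_singleton.1 ha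
          have hr0 : r ≠ 0 := by
            rintro rfl
            rw [zero_smul] at hr
            apply hc0
            have h5 := rho_inv_rho ρ a c
            rw [← hr, map_zero] at h5
            exact h5.symm
          have h5 := rho_inv_rho ρ a c
          rw [← hr, map_smul] at h5
          rw [Submodule.mem_span_singleton]
          refine ⟨r⁻¹, ?_⟩
          have h6 : ρ a⁻¹ c = r⁻¹ • r • ρ a⁻¹ c := by rw [smul_smul, inv_mul_cancel₀ hr0, one_smul]
          rw [h6, h5] }
    have hS : GG cs h T (X1 U n) ≤ S := by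
      refine sup_le ?_ (iSup_le ?_)
      · intro t ht
        change ρ t c ∈ Submodule.span k {c}
        rw [hχ t ht]
        exact Submodule.smul_mem _ _ (Submodule.mem_span_singleton_self c)
      · rintro ⟨x, hx⟩ y hy
        change ρ y c ∈ Submodule.span k {c}
        rcases (isRoot_one cs h).1 hx with rfl | rfl
        · rw [X1_pos] at hy
          rw [hcU y hy]
          exact Submodule.mem_span_singleton_self c
        · rw [X1_neg] at hy
          rw [h3 y hy]
          exact Submodule.mem_span_singleton_self c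
    rcases hirr (Submodule.span k {c}) (fun g _ v hv => by
      obtain ⟨r, rfl⟩ := Submodule.mem_span_singleton.1 hv
      rw [map_smul]
      exact Submodule.smul_mem _ _ (hS (by rw [hG]; trivial))) with h4 | h4
    · rw [Submodule.span_singleton_eq_bot] at h4
      exact hc0 h4
    · have h5 : Module.finrank k V ≤ 1 := by
        rw [← finrank_top k V, ← h4]
        exact finrank_span_singleton hc0 |>.le
      omega
  refine ⟨c, (φ c)⁻¹ • φ, χ, ?_, hcU, fun u hu v => ?_, hχ, ?_⟩
  · rw [LinearMap.smul_apply, smul_eq_mul, inv_mul_cancel₀ hφc]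
  · rw [LinearMap.smul_apply, LinearMap.smul_apply, hφU u hu]
  · rw [LinearMap.smul_apply, hnc, smul_zero]

end One

section Low

variable {Y : Type*} [Group Y] {k V : Type*} [Field k] [AddCommGroup V] [Module k V] [FiniteDimensional k V]

/-- **The dimension is at least the rank of the kernel.** -/
theorem card_le_of_kernel {ρ : Y →* Module.End k V} {c : V} {φ : Module.Dual k V} {α : Type*} [Fintype α]
    (P Q : Y → α → k) (hK : ∀ g y, φ (ρ (g * y) c) = ∑ a, P g a * Q y a)
    {S₁ S₂ : Type*} (g₁ : S₁ → Y) (g₂ : S₂ → Y)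
    (h₁ : LinearIndependent k (fun a : α => fun s : S₁ => P (g₁ s) a))
    (h₂ : LinearIndependent k (fun a : α => fun s : S₂ => Q (g₂ s) a)) :
    Fintype.card α ≤ Module.finrank k V := by
  classical
  rw [Fintype.linearIndependent_iff] at h₁ h₂
  -- the rows of `Q` span
  have hspan : Submodule.span k (Set.range fun s : S₂ => Q (g₂ s)) = ⊤ := by
    by_contra hne
    obtain ⟨ψ, hψ0, hψ⟩ := Submodule.exists_dual_map_eq_bot_of_lt_top (lt_top_iff_ne_top.2 hne) inferInstance
    apply hψ0
    have h3 : ∀ s : S₂, ψ (Q (g₂ s)) = 0 := by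
      intro s
      have h4 : ψ (Q (g₂ s)) ∈ (Submodule.span k (Set.range fun s : S₂ => Q (g₂ s))).map ψ :=
        ⟨_, Submodule.subset_span ⟨s, rfl⟩, rfl⟩
      rw [hψ, Submodule.mem_bot] at h4
      exact h4
    have h4 : ∀ v : α → k, ψ v = ∑ a, ψ (Pi.single a 1) * v a := by
      intro v
      conv_lhs => rw [← Finset.univ_sum_single v]
      rw [map_sum]
      refine Finset.sum_congr rfl fun a _ => ?_
      have : (Pi.single a (v a) : α → k) = v a • (Pi.single a 1 : α → k) := by
        rw [← Pi.single_smul, smul_eq_mul, mul_one]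
      rw [this, map_smul, smul_eq_mul, mul_comm]
    have h5 := h₂ (fun a => ψ (Pi.single a 1)) (by
      funext s
      rw [Finset.sum_apply]
      have := h3 s
      rw [h4] at this
      exact this)
    ext a
    simpa using h5 a
  let L : (S₂ →₀ k) →ₗ[k] V := Finsupp.linearCombination k fun y : S₂ => ρ (g₂ y) c
  let N : (S₂ →₀ k) →ₗ[k] (α → k) := Finsupp.linearCombination k fun y : S₂ => Q (g₂ y)
  have hN : LinearMap.range N = ⊤ := by
    rw [Finsupp.range_linearCombination]
    exact hspan
  have hker : ∀ f, L f = 0 → N f = 0 := by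
    intro f hf
    have h1 : L f = f.sum fun y r => r • ρ (g₂ y) c := Finsupp.linearCombination_apply _ _
    have h2 : N f = f.sum fun y r => r • Q (g₂ y) := Finsupp.linearCombination_apply _ _
    have h3 : ∀ s : S₁, ∑ a, P (g₁ s) a * N f a = 0 := by
      intro s
      have h4 : φ (ρ (g₁ s) (L f)) = 0 := by rw [hf, map_zero, map_zero]
      rw [h1, Finsupp.sum, map_sum, map_sum] at h4
      rw [← h4, h2, Finsupp.sum]
      have h5 : ∀ y ∈ f.support, φ (ρ (g₁ s) (f y • ρ (g₂ y) c)) = ∑ a, P (g₁ s) a * (f y * Q (g₂ y) a) := by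
        intro y _
        rw [map_smul, map_smul, ← rho_mul, hK, smul_eq_mul, Finset.mul_sum]
        exact Finset.sum_congr rfl fun a _ => by ring
      rw [Finset.sum_congr rfl h5, Finset.sum_comm]
      refine Finset.sum_congr rfl fun a _ => ?_
      rw [Finset.sum_apply, Finset.mul_sum]
      rfl
    funext a
    refine h₁ (N f) ?_ a
    funext s
    rw [Finset.sum_apply, Pi.zero_apply, ← h3 s]
    exact Finset.sum_congr rfl fun a _ => mul_comm _ _
  obtain ⟨s, hs⟩ := N.exists_rightInverse_of_surjective hN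
  have hinj : Function.Injective (L.comp s) := by
    rw [injective_iff_map_eq_zero]
    intro x hx
    have h1 := hker _ hx
    have h2 : N (s x) = x := LinearMap.congr_fun hs x
    rwa [h2] at h1
  have := LinearMap.finrank_le_finrank_of_injective hinj
  rwa [Module.finrank_fintype_fun_eq_card] at this

end Low

end Cfsg.Agent.H991.SzDim
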